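import Cfsg.Agent.Coset.J3.TopSteps0
import Cfsg.Agent.Coset.J3.TopRels0
import Cfsg.Agent.Coset.J3.TopRels1
import Cfsg.Agent.Coset.J3.TopRels2
import Cfsg.Agent.Coset.J3.TopRels3
import Mathlib.Tactic.IntervalCases

set_option autoImplicit false
set_option maxRecDepth 100000
set_option Elab.async false

namespace CfsgLib.Coset.J3.Top

theorem hR : checkRules rels subs R = true := by decide +kernel
theorem hdefs : checkDefs E 4 13 8033 = true := by decide +kernel
theorem hsteps : checkChunks E id R 4 (6 + 2) 8033 150 C = true :=
  checkChunks_of_blocks (by decide +kernel) fun b hb => by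
    have : b < 4 := hb
    interval_cases b
    · exact hsteps0
    · exact hsteps1
    · exact hsteps2
    · exact hsteps3

theorem htable : checkTable E id (8033 + chunk * 150) 6156 4 13 2 Rep Ref Tb = true := by decide +kernel
theorem hperm : checkPerm id 6156 4 13 2 Tb = true := by decide +kernel
theorem hrels : checkRels 6156 (9 + 4) Tb rels = true :=
  checkRels_of_blocks (by decide +kernel) fun b hb => by
    have : b < 16 := hb
    interval_cases b
    · exact hrels0
    · exact hrels1
    · exact hrels2
    · exact hrels3
    · exact hrels4
    · exact hrels5
    · exact hrels6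
    · exact hrels7
    · exact hrels8
    · exact hrels9
    · exact hrels10
    · exact hrels11
    · exact hrels12
    · exact hrels13
    · exact hrels14
    · exact hrels15

theorem htrans : checkTrans 6156 4 13 Tb Par = true := by decide +kernel

end CfsgLib.Coset.J3.Top
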