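import Cfsg.Agent.Coset.Presented
import Cfsg.Agent.Coset.Chain
import Cfsg.Agent.Coset.Simple
import Cfsg.Agent.Coset.J3.Rels
import Cfsg.Agent.Coset.J3.Top
import Cfsg.Agent.Coset.J3.K
import Cfsg.Agent.Coset.J3.Col
import Cfsg.Agent.Coset.J3.OrbData
import Cfsg.Prelude.Def_Sporadic

/-! A group presented on four involutions which is simple of order `50232960`. -/

set_option autoImplicit false
set_option maxRecDepth 100000
set_option Elab.async false

namespace CfsgLib.Coset.J3

/-- The presented group. -/
abbrev P : Type := NumGr 4 rels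

/-- The generators. -/
noncomputable abbrev Lp : List P := numGens 4 rels

theorem len_Lp : (Lp).length = 4 := length_numGens

theorem sq_all (x : Nat) : fl Lp x * fl Lp x = 1 := sq_numGens (by decide +kernel) x

theorem inv_all (x : Nat) : fl Lp (id x) = (fl Lp x)⁻¹ := by
  rw [id, inv_eq_of_mul_eq_one_right (sq_all x)]

theorem closure_Lp : Subgroup.closure {x | x ∈ Lp} = ⊤ := closure_numGens

/-- The subgroup of index 6156. -/
noncomputable abbrev H : Subgroup P := genW Lp Top.subs

theorem top_table : TableOK Lp H Top.E id 6156 Top.Rep Top.Tb :=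
  tableOK_of_check inv_all Top.hR (len_Lp.symm ▸ Top.hdefs) (len_Lp.symm ▸ Top.hsteps)
    (len_Lp.symm ▸ Top.htable) ev_numGens (fun _ hw => ev_mem_genW hw)

theorem card_H : Finite H ∧ Nat.card H ≤ 8160 := by
  have hc : checkLevel rels 4 [0, 1, 2] [] K.lrels K.subs = true := by decide +kernel
  have hl : (lv Lp [0, 1, 2]).length = 3 := by simp [lv]
  have ht : TableOK (lv Lp [0, 1, 2]) (genBy Lp []) K.E id 8160 K.Rep K.Tb :=
    tableOK_of_check (inv_lv sq_all [0, 1, 2]) K.hR (hl.symm ▸ K.hdefs) (hl.symm ▸ K.hsteps)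
      (hl.symm ▸ K.htable) (level_rels len_Lp hc ev_numGens) (level_subs len_Lp hc)
  have h := level_card ht (by decide) hc card_genBy_nil
  rw [← genW_singletons] at h
  exact ⟨h.1, h.2.trans (by norm_num)⟩

theorem card_le : Finite P ∧ Nat.card P ≤ 50232960 := by
  obtain ⟨hf, hc⟩ := top_table.finite_card_le (by decide) (closure_Lp ▸ le_top) card_H.1 card_H.2
  rw [closure_Lp] at hf hc
  rw [Subgroup.card_top] at hc
  exact ⟨Finite.of_equiv _ Subgroup.topEquiv.toEquiv, hc.trans (by norm_num)⟩

theorem perm_rels : ∀ w ∈ rels, ev (sigList Top.hperm) w = 1 :=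
  ev_sigList_eq_one Top.hperm Top.hrels (by decide +kernel)

/-- The action on 6156 points. -/
noncomputable def ρ : P →* Equiv.Perm (Fin 6156) := numHom (by simp [sigList]) perm_rels

theorem matches_ρ : Matches Lp ρ Top.Tb := by
  intro l hl i
  rw [ρ, numHom_fl, fl_sigList, sig_symm_apply Top.hperm (len_Lp ▸ hl)]

theorem index_and_eq : H.index = 6156 ∧ H = pstab ρ ⟨0, by decide⟩ :=
  exact_index top_table matches_ρ (by decide) (len_Lp.symm ▸ Top.htrans) closure_Lp
    (genW_le_pstab matches_ρ _ (by decide +kernel) (by decide +kernel))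

theorem transitive (i : Fin 6156) : ∃ g, ρ g ⟨0, by decide⟩ = i :=
  (matches_ρ.transitive (by decide) (len_Lp.symm ▸ Top.htrans) i).imp fun _ h => h.2

theorem subs_letters : checkLetters (Lp).length Top.subs = true := by
  rw [len_Lp]; decide +kernel

theorem orbits_ok : checkOrbits Top.Tb 13 Top.subs Orb.certs = true := by decide +kernel

theorem cover_ok : checkCover 6156 13 Orb.certs = true := by decide +kernel

theorem card_and_injective : Nat.card P = 50232960 ∧ Function.Injective ρ := by
  have := card_le.1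
  refine card_eq_and_injective (by decide) card_le.2 ?_
  have h3 := card_ker_le (ρ := ρ) [(0 : Fin 6156), 70, 1]
  have h2 := orbit_step matches_ρ (base := [(0 : Fin 6156), 70]) (β := 1) (m := 4) (dm := 2)
    (gens := Orb.B2G) (P := Orb.B2P) (Inv := Orb.B2Inv)
    (by decide +kernel) (by decide +kernel) (by decide +kernel) h3
  have h1 := orbit_step matches_ρ (base := [(0 : Fin 6156)]) (β := 70) (m := 2040) (dm := 11)
    (gens := Orb.B1G) (P := Orb.B1P) (Inv := Orb.B1Inv)
    (by decide +kernel) (by decide +kernel) (by decide +kernel) h2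
  have h0 := orbit_step matches_ρ (base := []) (β := 0) (m := 6156) (dm := 13)
    (gens := Orb.B0G) (P := Orb.B0P) (Inv := Orb.B0Inv)
    (by decide +kernel) (by decide +kernel) (by decide +kernel) h1
  simpa [← mul_assoc] using h0

/-- A word of order 19. -/
def u : List Nat := [0, 1, 3]

theorem u_pow : ev Lp u ^ 19 ^ 1 = 1 := by
  apply card_and_injective.2
  rw [map_one, pow_ev]
  have hc : checkRels 6156 13 Top.Tb [(List.replicate (19 ^ 1) u).flatten] = true := by
    decide +kernel
  refine Equiv.ext fun i => ?_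
  have h := allList_iff.mp (of_allBelow hc i i.2) _ (List.mem_singleton_self _)
  have hl : ∀ l ∈ (List.replicate (19 ^ 1) u).flatten, l < (Lp).length := by
    rw [len_Lp]; decide +kernel
  exact (matches_ρ.fix_iff hl).mpr (Nat.eq_of_beq_eq_true h)

theorem collapse (N : Subgroup P) [N.Normal] (hu : ev Lp u ∈ N) : N = ⊤ := by
  refine eq_top_of_collapse closure_Lp N hu fun L' hlen hL h1 => ?_
  have hl : L'.length = 4 := hlen.trans len_Lp
  have hr : ∀ w ∈ Col.crels, ev L' w = 1 := by
    intro w hw
    rcases List.mem_append.mp hw with hw | hw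
    · rw [hL, ev_numGens w hw, map_one]
    · rw [List.mem_singleton.mp hw]; exact h1
  have hinv : ∀ x, fl L' (id x) = (fl L' x)⁻¹ := by
    intro x
    refine eq_inv_of_mul_eq_one_left ?_
    have := hL [x, x]
    simp only [ev_cons, ev_nil, mul_one, sq_all, map_one] at this
    exact this
  have hsub : ∀ w ∈ Col.subs, ev L' w ∈ (⊥ : Subgroup (P ⧸ N)) := by
    intro w hw; simp [Col.subs] at hw
  exact all_one_of_table (tableOK_of_check hinv Col.hR (hl.symm ▸ Col.hdefs)
    (hl.symm ▸ Col.hsteps) (hl.symm ▸ Col.htable) hr hsub)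

theorem isSimple : IsSimpleGroup P := by
  have := card_le.1
  have : Fact (Nat.Prime 19) := ⟨by norm_num⟩
  have hmax := pstab_isCoatom_of_orbits matches_ρ (by decide) orbits_ok subs_letters cover_ok
    transitive (by decide +kernel) index_and_eq.2.le (by decide +kernel) (by decide +kernel)
  refine isSimpleGroup_of_action (by decide) card_and_injective.2 transitive hmax
    (p := 19) (a := 1) (by norm_num) ?_ (ev Lp u) u_pow fun N hN hu => ?_
  · rw [card_and_injective.1]; norm_num
  · exact @collapse N hN hu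

theorem isJ3 : Cfsg.IsJ3 P := ⟨isSimple, card_and_injective.1⟩

theorem permutation_realization : ∃ K : Subgroup (Equiv.Perm (Fin 6156)), Cfsg.IsJ3 K ∧
    MulAction.IsPretransitive K (Fin 6156) ∧
    Nat.card (MulAction.stabilizer K (0 : Fin 6156)) = 8160 := by
  have := card_le.1
  let e : P ≃* ρ.range := MonoidHom.ofInjective card_and_injective.2
  have htr : MulAction.IsPretransitive ρ.range (Fin 6156) := ⟨fun a b => by
    obtain ⟨g, hg⟩ := transitive a
    obtain ⟨g', hg'⟩ := transitive b
    refine ⟨⟨ρ (g' * g⁻¹), ⟨_, rfl⟩⟩, ?_⟩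
    show ρ (g' * g⁻¹) a = b
    rw [← hg, map_mul, map_inv, Equiv.Perm.mul_apply, Equiv.Perm.inv_def,
      Equiv.symm_apply_apply, hg']⟩
  have hc : Nat.card ρ.range = 50232960 := by
    rw [← Nat.card_congr e.toEquiv, card_and_injective.1]
  refine ⟨ρ.range, ⟨e.isSimpleGroup_congr.mp isSimple, hc⟩, htr, ?_⟩
  have h := Subgroup.card_mul_index (MulAction.stabilizer ρ.range (0 : Fin 6156))
  rw [MulAction.index_stabilizer_of_transitive, Nat.card_fin, hc] at h
  omega

end CfsgLib.Coset.J3
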