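import Cfsg.Agent.Coset.J3.UnitaryData
import Cfsg.Agent.Coset.J3.Order
import Cfsg.Agent.Coset.G24.MatAction
import Cfsg.Prelude.Def_Classical
import Mathlib.LinearAlgebra.Matrix.GeneralLinearGroup.Basic

/-!
The triple cover of the third Janko group as a subgroup of the special unitary group of dimension 9
over four elements.
-/

set_option autoImplicit false
set_option maxRecDepth 100000

namespace CfsgLib.Coset.J3

open Matrix CfsgLib.Coset.G24

/-- The matrices of the generators. -/
def uMat (l : Fin 4) : Matrix (Fin 9) (Fin 9) F4 :=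
  fun i j => ((uRows.getD l []).getD i []).getD j .z

theorem uMat_rows : ∀ l : Fin 4, rowsOf (Equiv.refl (Fin 9)) (uMat l) = uRows.getD l [] := by
  decide +kernel

theorem uMat_sq : ∀ l : Fin 4, uMat l * uMat l = 1 := by decide +kernel

/-- Squaring, the automorphism of order two. -/
def frobF4 : F4 →+* F4 where
  toFun x := x * x
  map_one' := by decide
  map_mul' := by decide
  map_zero' := by decide
  map_add' := by decide

theorem uMat_star : ∀ l : Fin 4, (uMat l)ᵀ * (uMat l).map frobF4 = 1 := by decide +kernel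

theorem eq_one_of_sq : ∀ x : F4, x * x = 1 → x = 1 := by decide

theorem det_uMat (l : Fin 4) : (uMat l).det = 1 :=
  eq_one_of_sq _ (by rw [← det_mul, uMat_sq, det_one])

theorem hermForm_eq (u v : Fin 9 → F4) :
    Cfsg.hermForm 9 F4 2 u v = u ⬝ᵥ (frobF4 ∘ v) :=
  Finset.sum_congr rfl fun i _ => by rw [sq]; rfl

theorem preserves_of_star {A : Matrix (Fin 9) (Fin 9) F4} (h : Aᵀ * A.map frobF4 = 1)
    (u v : Fin 9 → F4) :
    Cfsg.hermForm 9 F4 2 (A *ᵥ u) (A *ᵥ v) = Cfsg.hermForm 9 F4 2 u v := by
  have hv : frobF4 ∘ (A *ᵥ v) = A.map frobF4 *ᵥ (frobF4 ∘ v) :=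
    funext fun i => RingHom.map_mulVec frobF4 A v i
  have h' : (A.map frobF4)ᵀ * A = 1 := by simpa [transpose_mul] using congrArg transpose h
  rw [hermForm_eq, hermForm_eq, hv, dotProduct_mulVec, ← mulVec_transpose, mulVec_mulVec, h',
    one_mulVec]

/-- The special unitary group. -/
abbrev U : Subgroup (SpecialLinearGroup (Fin 9) F4) := Cfsg.SU 9 F4 2

/-- The generators in the special unitary group. -/
def uGen (l : Fin 4) : U :=
  ⟨⟨uMat l, det_uMat l⟩, fun u v => preserves_of_star (uMat_star l) u v⟩

/-- The generators as a list. -/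
def Lu : List U := [uGen 0, uGen 1, uGen 2, uGen 3]

/-- The triple cover. -/
def H3 : Subgroup U := Subgroup.closure {x | x ∈ Lu}

/-- The generators in the triple cover. -/
def Lh : List H3 := [⟨uGen 0, Subgroup.subset_closure (by simp [Lu])⟩,
  ⟨uGen 1, Subgroup.subset_closure (by simp [Lu])⟩,
  ⟨uGen 2, Subgroup.subset_closure (by simp [Lu])⟩,
  ⟨uGen 3, Subgroup.subset_closure (by simp [Lu])⟩]

theorem closure_Lh : Subgroup.closure {x | x ∈ Lh} = ⊤ := by
  refine Subgroup.map_injective H3.subtype_injective ?_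
  rw [MonoidHom.map_closure, ← MonoidHom.range_eq_map, Subgroup.range_subtype]
  refine (congrArg Subgroup.closure ?_).trans rfl
  ext x
  simp [Lh, Lu, or_comm, eq_comm]

/-- The underlying invertible matrix. -/
def toGL : H3 →* GL (Fin 9) F4 :=
  SpecialLinearGroup.toGL.comp (U.subtype.comp H3.subtype)

theorem toGL_injective : Function.Injective toGL := by
  intro a b h
  exact Subtype.ext (Subtype.ext (Subtype.ext (congrArg Units.val h)))

theorem ev_toGL (w : List Nat) : toGL (ev Lh w) = ev (Lh.map toGL) w := by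
  induction w with
  | nil => simp
  | cons l w ih =>
    rw [ev_cons, map_mul, ev_cons, ih]
    congr 1
    show toGL (Lh.getD l 1) = (Lh.map toGL).getD l 1
    rw [← map_one toGL, List.getD_map]

/-- The value of a word of letters below four, from a kernel computation. -/
theorem ev_val {w : List Nat} (hl : (w.all fun l => decide (l < 4)) = true)
    (M : Matrix (Fin 9) (Fin 9) F4)
    (h : checkCols uRows w 9 (rowsOf (Equiv.refl (Fin 9)) M) = true) :
    (toGL (ev Lh w)).val = M := by
  rw [ev_toGL]
  refine ev_eq_of_checkCols (L := Lh.map toGL) (Equiv.refl (Fin 9)) ?_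
    (fun l h' => by simpa [Lh] using List.all_eq_true.mp hl l h') M h
  intro l hl'
  have hl4 : l < 4 := by simpa [Lh] using hl'
  rw [← uMat_rows ⟨l, hl4⟩]
  interval_cases l <;> rfl

/-- The scalar elements of the triple cover. -/
def S3 : Subgroup H3 := (Subgroup.center (GL (Fin 9) F4)).comap toGL

theorem mem_S3_iff (h : H3) : h ∈ S3 ↔ ∃ c, (toGL h).val = Matrix.scalar (Fin 9) c := by
  rw [S3, Subgroup.mem_comap, GeneralLinearGroup.mem_center_iff_val_mem_range_scalar]
  simp [Set.mem_range, eq_comm]

theorem S3_le_center : S3 ≤ Subgroup.center H3 := fun h hh => Subgroup.mem_center_iff.mpr fun g =>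
  toGL_injective (by rw [map_mul, map_mul]; exact Subgroup.mem_center_iff.mp hh _)

/-- The check of all relators. -/
noncomputable def checkScal : Bool :=
  (List.range 21).all fun k =>
    ((rels.getD k []).all fun l => decide (l < 4)) &&
    checkCols uRows (rels.getD k []) 9
      (rowsOf (Equiv.refl (Fin 9)) (Matrix.scalar (Fin 9) (uScal.getD k .o)))

theorem checkScal_ok : checkScal = true := by decide +kernel

theorem rels_mem : ∀ w ∈ rels, ev Lh w ∈ S3 := by
  intro w hw
  obtain ⟨k, hk, rfl⟩ := List.getElem_of_mem hw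
  have h := List.all_eq_true.mp checkScal_ok k (List.mem_range.mpr (by simpa [rels] using hk))
  rw [Bool.and_eq_true, List.getD_eq_getElem _ _ hk] at h
  exact (mem_S3_iff _).mpr ⟨_, ev_val h.1 _ h.2⟩

theorem not_commute : ¬ Commute (fl Lh 0) (fl Lh 1) := by
  intro h
  have : uMat 0 * uMat 1 = uMat 1 * uMat 0 := congrArg (fun x : H3 => (toGL x).val) h
  exact absurd this (by decide +kernel)

theorem center_ne_top : Subgroup.center H3 ≠ ⊤ := fun h =>
  not_commute ((Subgroup.mem_center_iff.mp (h.ge (Subgroup.mem_top (fl Lh 1)))) (fl Lh 0))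

/-- A proper central quotient containing the relators is the simple group. -/
theorem nonempty_equiv (N : Subgroup H3) [N.Normal] (h1 : S3 ≤ N) (h2 : N ≠ ⊤) :
    Nonempty (P ≃* H3 ⧸ N) := by
  have := isSimple
  let π := QuotientGroup.mk' N
  have hev : ∀ w, ev (Lh.map π) w = π (ev Lh w) := by
    intro w
    induction w with
    | nil => simp
    | cons l w ih =>
      rw [ev_cons, ev_cons, map_mul, ih]
      congr 1
      show (Lh.map π).getD l 1 = π (Lh.getD l 1)
      rw [← map_one π, List.getD_map]
  have hl : (Lh.map π).length = 4 := by simp [Lh]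
  have hr : ∀ w ∈ rels, ev (Lh.map π) w = 1 := fun w hw => by
    rw [hev]; exact (QuotientGroup.eq_one_iff _).mpr (h1 (rels_mem w hw))
  let f : P →* H3 ⧸ N := numHom hl hr
  have hs : f.range = ⊤ := by
    rw [range_numHom hl hr]
    have : {x | x ∈ Lh.map π} = π '' {x | x ∈ Lh} := by ext x; simp
    rw [this, ← MonoidHom.map_closure, closure_Lh]
    exact Subgroup.map_top_of_surjective π (QuotientGroup.mk'_surjective N)
  rcases Subgroup.Normal.eq_bot_or_eq_top (f.normal_ker) with hk | hk
  · exact ⟨MulEquiv.ofBijective f ⟨(MonoidHom.ker_eq_bot_iff f).mp hk,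
      MonoidHom.range_eq_top.mp hs⟩⟩
  · refine absurd ?_ h2
    rw [eq_top_iff]
    intro x _
    have hx : π x ∈ f.range := hs ▸ Subgroup.mem_top _
    obtain ⟨y, hy⟩ := hx
    rw [MonoidHom.mem_ker.mp (hk ▸ Subgroup.mem_top y : y ∈ f.ker)] at hy
    exact (QuotientGroup.eq_one_iff x).mp hy.symm

theorem center_eq : Subgroup.center H3 = S3 := by
  have := card_le.1
  have hn : S3.Normal := by unfold S3; infer_instance
  obtain ⟨e⟩ := nonempty_equiv (Subgroup.center H3) S3_le_center center_ne_top
  obtain ⟨e'⟩ := nonempty_equiv S3 le_rfl (fun h => center_ne_top (top_le_iff.mp (h ▸ S3_le_center)))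
  refine le_antisymm ?_ S3_le_center
  rw [← Subgroup.relIndex_eq_one]
  have h := Subgroup.relIndex_mul_index S3_le_center
  rw [Subgroup.index, Subgroup.index, ← Nat.card_congr e.toEquiv, ← Nat.card_congr e'.toEquiv] at h
  exact (Nat.mul_eq_right (Nat.card_pos (α := P)).ne').mp h

theorem card_S3 : Nat.card S3 = 3 := by
  have hw : checkCols uRows omegaW 9 (rowsOf (Equiv.refl (Fin 9)) (Matrix.scalar (Fin 9) F4.w)) =
      true := by decide +kernel
  have hwv : (toGL (ev Lh omegaW)).val = Matrix.scalar (Fin 9) F4.w :=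
    ev_val (by decide +kernel) _ hw
  let f : S3 → F4 := fun s => (toGL s.1).val 0 0
  have hs : ∀ s : S3, (toGL s.1).val = Matrix.scalar (Fin 9) (f s) := fun s => by
    obtain ⟨c, hc⟩ := (mem_S3_iff s.1).mp s.2
    simp [f, hc]
  have hf : Function.Injective f := fun s t h =>
    Subtype.ext (toGL_injective (Units.ext (by rw [hs s, hs t, h])))
  have hr : Set.range f = {c | c ≠ 0} := by
    ext c
    constructor
    · rintro ⟨s, rfl⟩ h0
      have h := congrArg Matrix.det (hs s)
      rw [h0, map_zero, det_zero] at h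
      exact ((Matrix.isUnit_iff_isUnit_det _).mp (toGL s.1).isUnit).ne_zero h
    · intro hc
      have hp : ∀ n : ℕ, ∃ s : S3, f s = F4.w ^ n := fun n => by
        refine ⟨⟨ev Lh omegaW ^ n, S3.pow_mem ((mem_S3_iff _).mpr ⟨_, hwv⟩) n⟩, ?_⟩
        show (toGL (ev Lh omegaW ^ n)).val 0 0 = _
        rw [map_pow, Units.val_pow_eq_pow_val, hwv, ← map_pow]
        simp
      rcases c with _ | _ | _ | _
      · exact absurd rfl hc
      · exact hp 0
      · simpa using hp 1
      · have := hp 2; simpa [sq, show F4.w * F4.w = F4.v from rfl] using this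
  rw [← Nat.card_range_of_injective hf, hr, Nat.card_eq_fintype_card]
  decide

theorem triple_cover : Nat.card (Subgroup.center H3) = 3 ∧
    Cfsg.IsJ3 (H3 ⧸ Subgroup.center H3) := by
  refine ⟨center_eq ▸ card_S3, ?_⟩
  obtain ⟨e⟩ := nonempty_equiv (Subgroup.center H3) S3_le_center center_ne_top
  exact ⟨e.isSimpleGroup_congr.mp isSimple, (Nat.card_congr e.toEquiv).symm.trans isJ3.2⟩

end CfsgLib.Coset.J3
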