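import Cfsg.Agent.Coset.G24.Field

/-! Four involutions of dimension 9 over four elements and the scalars of their relators. -/

set_option autoImplicit false

namespace CfsgLib.Coset.J3

open CfsgLib.Coset.G24

/-- The matrices of the four involutions, by rows. -/
def uRows : List (List (List F4)) :=
  [[[.o, .v, .w, .o, .z, .z, .w, .z, .z],
    [.w, .z, .v, .o, .v, .z, .w, .w, .w],
    [.v, .w, .z, .w, .v, .o, .v, .z, .o],
    [.o, .o, .v, .o, .w, .z, .z, .o, .o],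
    [.z, .w, .w, .v, .o, .v, .w, .z, .o],
    [.z, .z, .o, .z, .w, .o, .o, .v, .z],
    [.v, .v, .w, .z, .v, .o, .o, .z, .o],
    [.z, .v, .z, .o, .z, .w, .z, .o, .v],
    [.z, .v, .o, .o, .o, .z, .o, .w, .o]],
   [[.z, .o, .v, .w, .w, .z, .v, .o, .w],
    [.o, .o, .o, .v, .o, .o, .z, .w, .z],
    [.w, .o, .o, .o, .w, .o, .w, .o, .o],
    [.v, .w, .o, .z, .w, .v, .z, .w, .o],
    [.v, .o, .v, .v, .z, .w, .v, .v, .z],
    [.z, .o, .o, .w, .v, .o, .z, .w, .v],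
    [.w, .z, .v, .z, .w, .z, .z, .o, .w],
    [.o, .v, .o, .v, .w, .v, .o, .o, .w],
    [.v, .z, .o, .o, .z, .w, .v, .v, .o]],
   [[.o, .z, .o, .o, .o, .o, .z, .w, .o],
    [.z, .o, .v, .v, .z, .o, .w, .o, .w],
    [.o, .w, .o, .v, .w, .o, .o, .o, .v],
    [.o, .w, .w, .z, .z, .v, .o, .w, .o],
    [.o, .z, .v, .z, .z, .w, .z, .o, .v],
    [.o, .o, .o, .w, .v, .o, .v, .o, .v],
    [.z, .v, .o, .o, .z, .w, .z, .z, .w],
    [.v, .o, .o, .v, .o, .o, .z, .z, .o],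
    [.o, .v, .w, .o, .w, .w, .v, .o, .o]],
   [[.z, .w, .v, .o, .w, .o, .o, .w, .z],
    [.v, .o, .z, .z, .o, .z, .z, .z, .z],
    [.w, .z, .o, .z, .v, .v, .v, .z, .z],
    [.o, .z, .z, .o, .w, .o, .o, .z, .z],
    [.v, .o, .w, .v, .z, .v, .v, .o, .z],
    [.o, .z, .w, .o, .w, .z, .o, .v, .w],
    [.o, .z, .w, .o, .w, .o, .z, .v, .w],
    [.v, .z, .z, .z, .o, .w, .w, .o, .z],
    [.z, .z, .z, .z, .z, .v, .v, .z, .o]]]

/-- The scalars to which the relators evaluate. -/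
def uScal : List F4 := [.o, .o, .o, .o, .o, .o, .w, .o, .o, .w, .w, .o, .o, .o, .o, .o, .o, .o, .o, .o, .o]

/-- A word evaluating to a scalar of order three. -/
def omegaW : List Nat := [3, 2, 3, 2, 3, 0, 3, 0, 1, 3, 0, 3, 2, 3, 1, 2, 0, 1, 2, 1, 2, 0, 1, 2, 0, 1, 2, 0, 2, 1, 0]

end CfsgLib.Coset.J3
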